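import Mathlib
import Cfsg.Prelude.Def_Classical
import Cfsg.Prelude.Def_KGroupFacts
import Cfsg.Agent.Helper2.S3352.Defs
import Cfsg.Agent.Helper2.PSLM.Defs

set_option autoImplicit false
set_option linter.unusedSectionVars false
set_option linter.unusedVariables false

/-! S2096 / S2097 (Schur multiplier of `PΩ⁺_{2n}(q)`): common definitions.

`St n F` is the group presented by the Steinberg relations of type `D_n` (`DRel`, signed indices
`J n = Fin n ⊕ Fin n` as in S3352); `sx a b t` are its generators. -/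

namespace Cfsg.Agent.S2096P

open Cfsg.Agent.S3352P Cfsg.Agent.S3351P

/-- generators of the presentation -/
abbrev Gen (n : ℕ) (F : Type*) : Type _ := J n × J n × F

section pres

variable (n : ℕ) (F : Type*) [Field F]

/-- the relators -/
def rels : Set (FreeGroup (Gen n F)) :=
  {g | ∃ (a b : J n) (t : F), ¬ IsRoot a b ∧ g = FreeGroup.of (a, b, t)} ∪
  {g | ∃ (a b : J n) (t : F), IsRoot a b ∧
    g = FreeGroup.of (ng b, ng a, t) * (FreeGroup.of (a, b, -t))⁻¹} ∪
  {g | ∃ (a b : J n) (s t : F), IsRoot a b ∧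
    g = FreeGroup.of (a, b, s + t) * (FreeGroup.of (a, b, s) * FreeGroup.of (a, b, t))⁻¹} ∪
  {g | ∃ (a b c : J n) (s t : F), IsRoot a b ∧ IsRoot b c ∧ IsRoot a c ∧
    g = FreeGroup.of (a, b, s) * FreeGroup.of (b, c, t) * (FreeGroup.of (a, b, s))⁻¹ *
      (FreeGroup.of (b, c, t))⁻¹ * (FreeGroup.of (a, c, s * t))⁻¹} ∪
  {g | ∃ (a b c d : J n) (s t : F), IsRoot a b ∧ IsRoot c d ∧ b ≠ c ∧ a ≠ d ∧ a ≠ ng c ∧
    a ≠ ng d ∧ b ≠ ng c ∧ b ≠ ng d ∧
    g = FreeGroup.of (a, b, s) * FreeGroup.of (c, d, t) *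
      (FreeGroup.of (c, d, t) * FreeGroup.of (a, b, s))⁻¹} ∪
  {g | ∃ (a b : J n) (s t : F), IsRoot a b ∧
    g = FreeGroup.of (a, b, s) * FreeGroup.of (a, ng b, t) *
      (FreeGroup.of (a, ng b, t) * FreeGroup.of (a, b, s))⁻¹}

/-- the Steinberg group of type `D_n` over `F` -/
abbrev St : Type _ := PresentedGroup (rels n F)

end pres

variable {n : ℕ} {F : Type*} [Field F]

/-- the generators -/
def sx (a b : J n) (t : F) : St n F := PresentedGroup.of (a, b, t)

theorem sx_of_not_isRoot {a b : J n} (h : ¬ IsRoot a b) (t : F) : sx a b t = (1 : St n F) :=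
  PresentedGroup.one_of_mem
    (Or.inl (Or.inl (Or.inl (Or.inl (Or.inl ⟨a, b, t, h, rfl⟩)))))

/-- the generators satisfy the relations -/
theorem dRel_sx : DRel (sx (n := n) (F := F)) where
  flip := by
    intro a b hab t
    have h1 : PresentedGroup.mk (rels n F)
        (FreeGroup.of (ng b, ng a, t) * (FreeGroup.of (a, b, -t))⁻¹) = 1 :=
      PresentedGroup.one_of_mem
        (Or.inl (Or.inl (Or.inl (Or.inl (Or.inr ⟨a, b, t, hab, rfl⟩)))))
    rw [map_mul, map_inv, mul_inv_eq_one] at h1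
    exact h1
  add := by
    intro a b hab s t
    have h1 : PresentedGroup.mk (rels n F)
        (FreeGroup.of (a, b, s + t) * (FreeGroup.of (a, b, s) * FreeGroup.of (a, b, t))⁻¹) = 1 :=
      PresentedGroup.one_of_mem
        (Or.inl (Or.inl (Or.inl (Or.inr ⟨a, b, s, t, hab, rfl⟩))))
    rw [map_mul, map_inv, mul_inv_eq_one, map_mul] at h1
    exact h1
  mul := by
    intro a b c hab hbc hac s t
    have h1 : PresentedGroup.mk (rels n F)
        (FreeGroup.of (a, b, s) * FreeGroup.of (b, c, t) * (FreeGroup.of (a, b, s))⁻¹ *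
          (FreeGroup.of (b, c, t))⁻¹ * (FreeGroup.of (a, c, s * t))⁻¹) = 1 :=
      PresentedGroup.one_of_mem
        (Or.inl (Or.inl (Or.inr ⟨a, b, c, s, t, hab, hbc, hac, rfl⟩)))
    simp only [map_mul, map_inv] at h1
    rw [mul_inv_eq_one] at h1
    exact h1
  comm := by
    intro a b c d hab hcd h1 h2 h3 h4 h5 h6 s t
    have h : PresentedGroup.mk (rels n F)
        (FreeGroup.of (a, b, s) * FreeGroup.of (c, d, t) *
          (FreeGroup.of (c, d, t) * FreeGroup.of (a, b, s))⁻¹) = 1 :=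
      PresentedGroup.one_of_mem
        (Or.inl (Or.inr ⟨a, b, c, d, s, t, hab, hcd, h1, h2, h3, h4, h5, h6, rfl⟩))
    rw [map_mul, map_inv, mul_inv_eq_one, map_mul, map_mul] at h
    exact h
  orth := by
    intro a b hab s t
    have h : PresentedGroup.mk (rels n F)
        (FreeGroup.of (a, b, s) * FreeGroup.of (a, ng b, t) *
          (FreeGroup.of (a, ng b, t) * FreeGroup.of (a, b, s))⁻¹) = 1 :=
      PresentedGroup.one_of_mem (Or.inr ⟨a, b, s, t, hab, rfl⟩)
    rw [map_mul, map_inv, mul_inv_eq_one, map_mul, map_mul] at h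
    exact h

/-- the root generators generate -/
theorem closure_sx :
    Subgroup.closure {g : St n F | ∃ a b, ∃ t : F, IsRoot a b ∧ g = sx a b t} = ⊤ := by
  rw [eq_top_iff, ← PresentedGroup.closure_range_of]
  apply (Subgroup.closure_le _).mpr
  rintro _ ⟨⟨a, b, t⟩, rfl⟩
  by_cases h : IsRoot a b
  · exact Subgroup.subset_closure ⟨a, b, t, h, rfl⟩
  · have : (PresentedGroup.of (a, b, t) : St n F) = 1 := sx_of_not_isRoot h t
    rw [this]
    exact Subgroup.one_mem _

/-- the universal property -/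
theorem exists_lift {M : Type*} [Group M] {X : J n → J n → F → M} (hX : DRel X) :
    ∃ φ : St n F →* M, ∀ a b, IsRoot a b → ∀ t : F, φ (sx a b t) = X a b t := by
  classical
  let f : Gen n F → M := fun p => if IsRoot p.1 p.2.1 then X p.1 p.2.1 p.2.2 else 1
  have hf : ∀ a b (t : F), IsRoot a b → f (a, b, t) = X a b t := fun a b t h => if_pos h
  have hrel : ∀ r ∈ rels n F, FreeGroup.lift f r = 1 := by
    intro r hr
    rcases hr with ((((hr | hr) | hr) | hr) | hr) | hr
    · obtain ⟨a, b, t, hab, rfl⟩ := hr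
      rw [FreeGroup.lift_apply_of]
      exact if_neg hab
    · obtain ⟨a, b, t, hab, rfl⟩ := hr
      rw [map_mul, map_inv, FreeGroup.lift_apply_of, FreeGroup.lift_apply_of, hf _ _ _ hab.flip,
        hf _ _ _ hab, hX.flip a b hab t, mul_inv_cancel]
    · obtain ⟨a, b, s, t, hab, rfl⟩ := hr
      rw [map_mul, map_inv, map_mul, FreeGroup.lift_apply_of, FreeGroup.lift_apply_of,
        FreeGroup.lift_apply_of, hf _ _ _ hab, hf _ _ _ hab, hf _ _ _ hab, hX.add a b hab s t,
        mul_inv_cancel]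
    · obtain ⟨a, b, c, s, t, hab, hbc, hac, rfl⟩ := hr
      simp only [map_mul, map_inv, FreeGroup.lift_apply_of]
      rw [hf _ _ _ hab, hf _ _ _ hbc, hf _ _ _ hac, ← hX.mul a b c hab hbc hac s t, cm_def,
        mul_inv_cancel]
    · obtain ⟨a, b, c, d, s, t, hab, hcd, h1, h2, h3, h4, h5, h6, rfl⟩ := hr
      simp only [map_mul, map_inv, FreeGroup.lift_apply_of]
      rw [hf _ _ _ hab, hf _ _ _ hcd, hX.comm a b c d hab hcd h1 h2 h3 h4 h5 h6 s t,
        mul_inv_cancel]
    · obtain ⟨a, b, s, t, hab, rfl⟩ := hr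
      have hab' : IsRoot a (ng b) := ⟨fun h => hab.2 h, fun h => hab.1 (by rw [h, ng_ng])⟩
      simp only [map_mul, map_inv, FreeGroup.lift_apply_of]
      rw [hf _ _ _ hab, hf _ _ _ hab', hX.orth a b hab s t, mul_inv_cancel]
  refine ⟨PresentedGroup.toGroup hrel, ?_⟩
  intro a b hab t
  show PresentedGroup.toGroup hrel (PresentedGroup.of (a, b, t)) = X a b t
  rw [PresentedGroup.toGroup.of]
  exact hf a b t hab

/-- homomorphisms from `St n F` are determined by the root generators -/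
theorem hom_ext {M : Type*} [Group M] {φ φ' : St n F →* M}
    (h : ∀ a b, IsRoot a b → ∀ t : F, φ (sx a b t) = φ' (sx a b t)) : φ = φ' := by
  apply MonoidHom.eq_of_eqOn_dense (closure_sx (n := n) (F := F))
  rintro _ ⟨a, b, t, hab, rfl⟩
  exact h a b hab t


/-! ### more definitions for the pieces -/

section more

open Cfsg.Agent.S2086P

/-- the absolute value of a signed index -/
def ab {n : ℕ} (a : J n) : Fin n := Sum.elim id id a

@[simp] theorem ab_inl {n : ℕ} (i : Fin n) : ab (Sum.inl i : J n) = i := rfl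
@[simp] theorem ab_inr {n : ℕ} (i : Fin n) : ab (Sum.inr i : J n) = i := rfl
@[simp] theorem ab_ng {n : ℕ} (a : J n) : ab (ng a) = ab a := by cases a <;> rfl

theorem eq_or_eq_ng_of_ab_eq {n : ℕ} {a b : J n} (h : ab a = ab b) : a = b ∨ a = ng b := by
  cases a <;> cases b <;> simp_all [ng]

theorem isRoot_iff_ab {n : ℕ} {a b : J n} : IsRoot a b ↔ ab a ≠ ab b := by
  constructor
  · rintro ⟨h1, h2⟩ h
    rcases eq_or_eq_ng_of_ab_eq h with h | h
    · exact h1 h
    · exact h2 h
  · intro h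
    exact ⟨fun e => h (by rw [e]), fun e => h (by rw [e, ab_ng])⟩

/-- the hypothesis on the rank and the field under which the Steinberg group is centrally closed -/
def Big (n : ℕ) (F : Type*) [Fintype F] : Prop := 5 ≤ n ∨ (n = 4 ∧ 3 ≤ Fintype.card F)

/-- a third index -/
theorem exists_third_ab {n : ℕ} (hn : 3 ≤ n) (i j : Fin n) : ∃ k : Fin n, k ≠ i ∧ k ≠ j := by
  by_contra hcon
  push Not at hcon
  have key : ∀ k : Fin n, k.val = i.val ∨ k.val = j.val := by
    intro k
    by_cases h : k = i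
    · left; rw [h]
    · right; rw [hcon k h]
  have h0 := key ⟨0, by omega⟩
  have h1 := key ⟨1, by omega⟩
  have h2 := key ⟨2, by omega⟩
  simp only at h0 h1 h2
  omega

/-- the chosen auxiliary index for the root `(a, b)` -/
noncomputable def th {n : ℕ} (hn : 3 ≤ n) (a b : J n) : J n :=
  Sum.inl (Classical.choose (exists_third_ab hn (ab a) (ab b)))

theorem ab_th_ne_left {n : ℕ} (hn : 3 ≤ n) (a b : J n) : ab (th hn a b) ≠ ab a :=
  (Classical.choose_spec (exists_third_ab hn (ab a) (ab b))).1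

theorem ab_th_ne_right {n : ℕ} (hn : 3 ≤ n) (a b : J n) : ab (th hn a b) ≠ ab b :=
  (Classical.choose_spec (exists_third_ab hn (ab a) (ab b))).2

theorem isRoot_left_th {n : ℕ} (hn : 3 ≤ n) (a b : J n) : IsRoot a (th hn a b) :=
  isRoot_iff_ab.2 (ab_th_ne_left hn a b).symm

theorem isRoot_th_right {n : ℕ} (hn : 3 ≤ n) (a b : J n) : IsRoot (th hn a b) b :=
  isRoot_iff_ab.2 (ab_th_ne_right hn a b)

variable {n : ℕ} {F : Type*} [Field F] {G : Type*} [Group G] {E : Type*} [Group E]
  {M : Type*} [Group M]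

/-- the canonical lift of the root element `X a b t` to a central extension -/
noncomputable def Y (X : J n → J n → F → G) (ψ : E →* G) (hψ : Function.Surjective ψ)
    (hn : 3 ≤ n) (a b : J n) (t : F) : E :=
  cl ψ hψ (X a (th hn a b) t) (X (th hn a b) b 1)

/-- the subgroup generated by the Weyl elements of the roots `e_i - e_j` -/
def NA (X : J n → J n → F → M) : Subgroup M :=
  Subgroup.closure {g | ∃ (i j : Fin n) (t : F), i ≠ j ∧ t ≠ 0 ∧
    g = wX X (Sum.inl i) (Sum.inl j) t}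

/-- the lift of the sign change at `o` and `j` -/
def cS (X : J n → J n → F → M) (o j : Fin n) : M :=
  wX X (Sum.inl o) (Sum.inl j) 1 * wX X (Sum.inl o) (Sum.inr j) 1

/-- the subgroup generated by the sign changes with base point `o` -/
def CS (X : J n → J n → F → M) (o : Fin n) : Subgroup M :=
  Subgroup.closure {g | ∃ j : Fin n, j ≠ o ∧ g = cS X o j}

/-- the eigenvalue of the torus element `tX X a b t` on the basis vector `c` -/
def ev (a b c : J n) (t : F) : F :=
  if c = a ∨ c = ng b then t else if c = b ∨ c = ng a then t⁻¹ else 1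

/-- the candidate for the nontrivial element of the kernel of `St → Ω` -/
def zc (X : J n → J n → F → M) (o o1 : Fin n) : M :=
  tX X (Sum.inl o) (Sum.inl o1) (-1) * tX X (Sum.inl o) (Sum.inr o1) (-1)

/-- diagonal matrices of determinant one -/
def dgS (n : ℕ) (F : Type*) [Field F] : Tor n F →* Matrix.SpecialLinearGroup (Fin n) F where
  toFun h := ⟨Matrix.diagonal (fun i => ((h.1 i : Fˣ) : F)), by
    rw [Matrix.det_diagonal]
    have h1 : ∏ i, h.1 i = 1 := h.2
    have h2 := congrArg (fun u : Fˣ => (u : F)) h1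
    simpa using h2⟩
  map_one' := by
    apply Subtype.ext
    show Matrix.diagonal (fun i => (((1 : Tor n F).1 i : Fˣ) : F)) = 1
    have : ∀ i, (((1 : Tor n F).1 i : Fˣ) : F) = 1 := fun i => rfl
    simp
  map_mul' := by
    intro a b
    apply Subtype.ext
    show Matrix.diagonal (fun i => (((a * b).1 i : Fˣ) : F)) =
      Matrix.diagonal (fun i => ((a.1 i : Fˣ) : F)) * Matrix.diagonal (fun i => ((b.1 i : Fˣ) : F))
    rw [Matrix.diagonal_mul_diagonal]
    congr 1

theorem dgS_coe (h : Tor n F) :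
    ((dgS n F h : Matrix.SpecialLinearGroup (Fin n) F) : Matrix (Fin n) (Fin n) F) =
      Matrix.diagonal (fun i => ((h.1 i : Fˣ) : F)) := rfl

/-- the parameter group of the centre: pairs `(λ, s)` with `λ² = 1`, `s² = λⁿ` -/
def Zpar (n : ℕ) (F : Type*) [Field F] : Subgroup (Fˣ × Fˣ) where
  carrier := {p | p.1 ^ 2 = 1 ∧ p.2 ^ 2 = p.1 ^ n}
  one_mem' := by simp
  mul_mem' := by
    rintro a b ⟨ha1, ha2⟩ ⟨hb1, hb2⟩
    refine ⟨?_, ?_⟩
    · show (a.1 * b.1) ^ 2 = 1
      rw [mul_pow, ha1, hb1, mul_one]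
    · show (a.2 * b.2) ^ 2 = (a.1 * b.1) ^ n
      rw [mul_pow, mul_pow, ha2, hb2]
  inv_mem' := by
    rintro a ⟨ha1, ha2⟩
    refine ⟨?_, ?_⟩
    · show (a.1⁻¹) ^ 2 = 1
      rw [inv_pow, ha1, inv_one]
    · show (a.2⁻¹) ^ 2 = (a.1⁻¹) ^ n
      rw [inv_pow, inv_pow, ha2]

theorem mem_Zpar {p : Fˣ × Fˣ} : p ∈ Zpar n F ↔ p.1 ^ 2 = 1 ∧ p.2 ^ 2 = p.1 ^ n := Iff.rfl

/-- the torus parameter attached to `(λ, s)`: `λ / s` at the positions `o`, `o1` and `λ` elsewhere -/
def dparFun (o o1 : Fin n) (p : Fˣ × Fˣ) : Fin n → Fˣ :=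
  fun i => p.1 * (if i = o ∨ i = o1 then p.2⁻¹ else 1)

theorem prod_dparFun {o o1 : Fin n} (ho : o ≠ o1) (p : Fˣ × Fˣ) :
    ∏ i, dparFun o o1 p i = p.1 ^ n * (p.2⁻¹) ^ 2 := by
  unfold dparFun
  rw [Finset.prod_mul_distrib, Finset.prod_const, Finset.card_univ, Fintype.card_fin]
  congr 1
  rw [Finset.prod_eq_mul_of_mem o o1 (Finset.mem_univ _) (Finset.mem_univ _) ho]
  · rw [if_pos (Or.inl rfl), if_pos (Or.inr rfl), pow_two]
  · intro c _ hc
    rw [if_neg (by push Not; exact hc)]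

/-- the torus parameter of an element of `Zpar` -/
def dpar {o o1 : Fin n} (ho : o ≠ o1) : ↥(Zpar n F) →* Tor n F where
  toFun p := ⟨dparFun o o1 p.1, by
    show ∏ i, dparFun o o1 p.1 i = 1
    rw [prod_dparFun ho, ← p.2.2, inv_pow, mul_inv_cancel]⟩
  map_one' := by
    apply Subtype.ext
    funext i
    show dparFun o o1 (1 : Fˣ × Fˣ) i = 1
    unfold dparFun
    split_ifs <;> simp
  map_mul' := by
    intro a b
    apply Subtype.ext
    funext i
    show dparFun o o1 (a.1 * b.1) i = dparFun o o1 a.1 i * dparFun o o1 b.1 i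
    unfold dparFun
    split_ifs
    · simp only [Prod.fst_mul, Prod.snd_mul, mul_inv]
      exact mul_mul_mul_comm _ _ _ _
    · simp

theorem dpar_apply {o o1 : Fin n} (ho : o ≠ o1) (p : ↥(Zpar n F)) (i : Fin n) :
    (dpar ho p).1 i = p.1.1 * (if i = o ∨ i = o1 then p.1.2⁻¹ else 1) := rfl

/-- the parametrization of the centre -/
def zphi (Θ : Matrix.SpecialLinearGroup (Fin n) F →* M) (X : J n → J n → F → M) {o o1 : Fin n}
    (ho : o ≠ o1) (p : ↥(Zpar n F)) : M :=
  Θ (dgS n F (dpar ho p)) * tX X (Sum.inl o) (Sum.inr o1) ((p.1.2 : Fˣ) : F)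

end more

end Cfsg.Agent.S2096P
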