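import Mathlib
import Cfsg.Agent.Helper2.S2096.Defs

set_option autoImplicit false
set_option linter.unusedSectionVars false
set_option linter.unusedVariables false

/-! S2096 / S2097, part C (the spin representation): definitions.

`CAR ψ`: the family `ψ a` (`a` a signed index) satisfies the canonical anticommutation relations
(the relations of the Clifford algebra of the form `Σ x_i y_i` for the standard basis);
`Xc ψ a b t` is the unit `1 + t ψ_a ψ_{-b}`, the lift of the root element `xm a b t`. -/

namespace Cfsg.Agent.S2096P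

open Cfsg.Agent.S3352P Cfsg.Agent.S3351P

variable {n : ℕ} {F : Type*} [Field F] {A : Type*} [Ring A] [Algebra F A]

/-- the canonical anticommutation relations -/
structure CAR (ψ : J n → A) : Prop where
  sq : ∀ a, ψ a * ψ a = 0
  anti : ∀ a b, b ≠ ng a → ψ a * ψ b = -(ψ b * ψ a)
  pair : ∀ a, ψ a * ψ (ng a) + ψ (ng a) * ψ a = 1

/-- the element `1 + t ψ_a ψ_{-b}` of the algebra -/
def xc (ψ : J n → A) (a b : J n) (t : F) : A := 1 + t • (ψ a * ψ (ng b))

/-- the unit `1 + t ψ_a ψ_{-b}` (junk if it is not a unit) -/
noncomputable def Xc (ψ : J n → A) (a b : J n) (t : F) : Aˣ := by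
  classical
  exact if h : IsUnit (xc ψ a b t) then h.unit else 1

/-- the idempotent `ψ_a ψ_{-a}` -/
def pp (ψ : J n → A) (a : J n) : A := ψ a * ψ (ng a)

end Cfsg.Agent.S2096P
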