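import Mathlib
import Cfsg.Agent.Helper2.S2096.Defs
import Cfsg.Agent.Helper20.S2096HALFSL
import Cfsg.Agent.Helper20.S2096ORTHGEN
import Cfsg.Agent.Helper16.S2096YMAP
import Cfsg.Agent.Helper3.S2096HALFSTD
import Cfsg.Agent.Helper19.S2096C2H
import Cfsg.Agent.Helper7.S2096YIND

set_option autoImplicit false
set_option linter.unusedSectionVars false
set_option linter.unusedVariables false

/-! S2096/S2097 part A: every central extension of the Steinberg group of type `D_n` splits. -/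

namespace Cfsg.Agent.S2096P

open Cfsg.Agent.S3352P Cfsg.Agent.S3351P Cfsg.Agent.S2086P Cfsg.Agent.Helper2.Stb
open scoped commutatorElement

variable {n : ℕ} {F : Type*} [Field F] [Fintype F] {G : Type*} [Group G] {E : Type*} [Group E]
  {X : J n → J n → F → G}

namespace MAINA

theorem cm_eq_comm (a b : E) : cm a b = ⁅a, b⁆ := by
  rw [cm_def, commutatorElement_def]

/-- the canonical lifts satisfy the Steinberg relations -/
theorem dRel_Y (hbig : Big n F) (hX : DRel X) (ψ : E →* G) (hψ : Function.Surjective ψ)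
    (hc : ψ.ker ≤ Subgroup.center E) (hn : 3 ≤ n) : DRel (Y X ψ hψ hn) := by
  have hflip : ∀ a b, IsRoot a b → ∀ t : F, Y X ψ hψ hn (ng b) (ng a) t = Y X ψ hψ hn a b (-t) :=
    fun a b hab t => Y_flip hbig hX ψ hψ hc hn hab t
  have hadd : ∀ a b, IsRoot a b → ∀ s t : F,
      Y X ψ hψ hn a b (s + t) = Y X ψ hψ hn a b s * Y X ψ hψ hn a b t :=
    fun a b hab s t => Y_add hbig hX ψ hψ hc hn hab s t
  have hmul : ∀ a b c, IsRoot a b → IsRoot b c → IsRoot a c → ∀ s t : F,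
      cm (Y X ψ hψ hn a b s) (Y X ψ hψ hn b c t) = Y X ψ hψ hn a c (s * t) := by
    intro a b c hab hbc hac s t
    rw [cm_eq_comm, cl_eq ψ hψ hc (map_Y hX ψ hψ hn hab s) (map_Y hX ψ hψ hn hbc t)]
    exact cl_eq_Y hbig hX ψ hψ hc hn hab hbc hac s t
  have hcomm : ∀ a b c d, IsRoot a b → IsRoot c d → b ≠ c → a ≠ d → a ≠ ng c → a ≠ ng d →
      b ≠ ng c → b ≠ ng d → ∀ s t : F,
      Y X ψ hψ hn a b s * Y X ψ hψ hn c d t = Y X ψ hψ hn c d t * Y X ψ hψ hn a b s := by
    intro a b c d hab hcd h1 h2 h3 h4 h5 h6 s t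
    exact cl_comm hbig hX ψ hψ hc hab hcd h1 h2 h3 h4 h5 h6 s t _ _ (map_Y hX ψ hψ hn hab s)
      (map_Y hX ψ hψ hn hcd t)
  have hcen : ∀ a b, IsRoot a b → ∀ s t : F,
      cm (Y X ψ hψ hn a b s) (Y X ψ hψ hn a (ng b) t) ∈ Subgroup.center E := by
    intro a b hab s t
    have hab' : IsRoot a (ng b) := ⟨fun h => hab.2 h, fun h => hab.1 (by rw [h, ng_ng])⟩
    apply hc
    rw [MonoidHom.mem_ker, cm_def, map_mul, map_mul, map_mul, map_inv, map_inv,
      map_Y hX ψ hψ hn hab s, map_Y hX ψ hψ hn hab' t, hX.orth a b hab s t]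
    group
  exact ⟨hflip, hadd, hmul, hcomm, orth_of_central hn hflip hadd hmul hcomm hcen⟩

/-- every central extension of `St n F` splits -/
theorem exists_section (hbig : Big n F) (hn : 3 ≤ n) (ψ : E →* St n F)
    (hψ : Function.Surjective ψ) (hc : ψ.ker ≤ Subgroup.center E) :
    ∃ σ : St n F →* E, ψ.comp σ = MonoidHom.id _ := by
  have hY := dRel_Y hbig (dRel_sx (n := n) (F := F)) ψ hψ hc hn
  obtain ⟨σ, hσ⟩ := exists_lift hY
  refine ⟨σ, ?_⟩
  apply hom_ext
  intro a b hab t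
  rw [MonoidHom.comp_apply, hσ a b hab t, map_Y dRel_sx ψ hψ hn hab t, MonoidHom.id_apply]

/-- a stem extension of `St n F` is trivial -/
theorem ker_eq_bot (hbig : Big n F) (hn : 3 ≤ n) (ρ : E →* St n F)
    (hρ : Cfsg.IsStemExtension ρ) : ρ.ker = ⊥ := by
  obtain ⟨s, hs'⟩ := exists_section hbig hn ρ hρ.1 hρ.2.1
  have hs : ∀ g, ρ (s g) = g := fun g => by
    have := congrArg (fun φ => φ g) hs'
    simpa using this
  have hle : commutator E ≤ s.range := by
    rw [commutator_eq_closure, Subgroup.closure_le]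
    rintro _ ⟨x, y, rfl⟩
    have hx : x * (s (ρ x))⁻¹ ∈ Subgroup.center E :=
      hρ.2.1 (by rw [MonoidHom.mem_ker, map_mul, map_inv, hs, mul_inv_cancel])
    have hy : y * (s (ρ y))⁻¹ ∈ Subgroup.center E :=
      hρ.2.1 (by rw [MonoidHom.mem_ker, map_mul, map_inv, hs, mul_inv_cancel])
    have e1 : x = (x * (s (ρ x))⁻¹) * s (ρ x) := by group
    have e2 : y = (y * (s (ρ y))⁻¹) * s (ρ y) := by group
    have : ⁅x, y⁆ = ⁅s (ρ x), s (ρ y)⁆ := by
      conv_lhs => rw [e1, e2]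
      rw [comm_mul_central_left hx, comm_mul_central_right hy]
    rw [SetLike.mem_coe, this, ← map_commutatorElement]
    exact ⟨_, rfl⟩
  rw [Subgroup.eq_bot_iff_forall]
  intro x hx
  obtain ⟨g, rfl⟩ := hle (hρ.2.2 hx)
  have : ρ (s g) = 1 := hx
  rw [hs] at this
  rw [this, map_one]

end MAINA

end Cfsg.Agent.S2096P
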