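import Mathlib
import Cfsg.Agent.Helper2.S2096.Defs
import Cfsg.Agent.Helper2.S2096.DefsC
import Cfsg.Agent.Helper18.S2096CLUNIT
import Cfsg.Agent.Helper20.S2096CLREL2
import Cfsg.Agent.Helper8.S2096CLCAR
import Cfsg.Agent.Helper18.S2096CLREL1
import Cfsg.Agent.Helper20.S2096CLW
import Cfsg.Agent.Helper18.S2096CLPQ
import Cfsg.Agent.Helper25.S2096CLE

set_option autoImplicit false
set_option linter.unusedSectionVars false
set_option linter.unusedVariables false

/-! S2096/S2097 part C: the spin representation of the Steinberg group of type `D_n`; the element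
`zc` is not trivial in odd characteristic. -/

namespace Cfsg.Agent.S2096P

open Cfsg.Agent.S3352P Cfsg.Agent.S3351P

universe u

namespace MAINC

section

variable {n : ℕ} {F : Type*} [Field F] {A : Type*} [Ring A] [Algebra F A] {ψ : J n → A}

theorem xc_zero (a b : J n) : xc ψ a b (0 : F) = 1 := by
  unfold xc
  rw [zero_smul, add_zero]

/-- the units `Xc` satisfy the Steinberg relations of type `D_n` -/
theorem dRel_Xc (hψ : CAR ψ) : DRel (Xc (F := F) ψ) := by
  have hadd : ∀ a b, IsRoot a b → ∀ s t : F, Xc ψ a b (s + t) = Xc ψ a b s * Xc ψ a b t := by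
    intro a b hab s t
    apply Units.ext
    rw [Units.val_mul, coe_Xc hψ hab, coe_Xc hψ hab, coe_Xc hψ hab, xc_add hψ hab]
  have hzero : ∀ a b, IsRoot a b → Xc ψ a b (0 : F) = 1 := by
    intro a b hab
    apply Units.ext
    rw [coe_Xc hψ hab, xc_zero, Units.val_one]
  have hinv : ∀ a b, IsRoot a b → ∀ s : F, (Xc ψ a b s)⁻¹ = Xc ψ a b (-s) := by
    intro a b hab s
    rw [inv_eq_iff_mul_eq_one, ← hadd a b hab, add_neg_cancel, hzero a b hab]
  refine ⟨?_, hadd, ?_, ?_, ?_⟩
  · intro a b hab t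
    apply Units.ext
    rw [coe_Xc hψ hab.flip, coe_Xc hψ hab, xc_flip hψ hab]
  · intro a b c hab hbc hac s t
    rw [cm_def, hinv a b hab, hinv b c hbc]
    apply Units.ext
    rw [Units.val_mul, Units.val_mul, Units.val_mul, coe_Xc hψ hab, coe_Xc hψ hbc, coe_Xc hψ hab,
      coe_Xc hψ hbc, coe_Xc hψ hac, xc_mul hψ hab hbc hac]
  · intro a b c d hab hcd h1 h2 h3 h4 h5 h6 s t
    apply Units.ext
    rw [Units.val_mul, Units.val_mul, coe_Xc hψ hab, coe_Xc hψ hcd,
      xc_comm hψ hab hcd h1 h2 h3 h4 h5 h6]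
  · intro a b hab s t
    have hab' : IsRoot a (ng b) := ⟨fun h => hab.2 h, fun h => hab.1 (by rw [h, ng_ng])⟩
    apply Units.ext
    rw [Units.val_mul, Units.val_mul, coe_Xc hψ hab, coe_Xc hψ hab', xc_orth hψ hab]

end

/-- the image of `zc` under a homomorphism -/
theorem map_zc {n : ℕ} {F : Type*} [Field F] {M M' : Type*} [Group M] [Group M']
    {X : J n → J n → F → M} {X' : J n → J n → F → M'} (φ : M →* M')
    (h : ∀ a b, IsRoot a b → ∀ t : F, φ (X a b t) = X' a b t) {o o1 : Fin n} (ho : o ≠ o1) :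
    φ (zc X o o1) = zc X' o o1 := by
  have r1 : IsRoot (Sum.inl o : J n) (Sum.inl o1) := isRoot_iff_ab.2 (by simpa using ho)
  have r2 : IsRoot (Sum.inl o : J n) (Sum.inr o1) := isRoot_iff_ab.2 (by simpa using ho)
  simp only [zc, tX, wX, map_mul, h _ _ r1, h _ _ r1.symm, h _ _ r2, h _ _ r2.symm]

end MAINC

/-- CLIFF (result of part C) -/
theorem zc_sx_ne_one {n : ℕ} {F : Type u} [Field F] (h2 : (2 : F) ≠ 0) {o o1 : Fin n}
    (ho : o ≠ o1) : zc (sx (n := n) (F := F)) o o1 ≠ 1 := by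
  obtain ⟨A, _, _, ψ, hnt, hψ⟩ := exists_car n F h2
  obtain ⟨φ, hφ⟩ := exists_lift (MAINC.dRel_Xc (F := F) hψ)
  intro h1
  have h3 := MAINC.map_zc φ hφ ho
  rw [h1, map_one] at h3
  have h4 : (1 : A) = -1 := by
    rw [← coe_zc_Xc (F := F) hψ ho, ← h3, Units.val_one]
  have h5 : (algebraMap F A) 2 = 0 := by
    rw [map_ofNat]
    have : (2 : A) = 1 + 1 := by norm_num
    rw [this]
    nth_rewrite 2 [h4]
    exact add_neg_cancel 1
  exact h2 ((map_eq_zero_iff _ (algebraMap F A).injective).1 h5)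

end Cfsg.Agent.S2096P
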