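import Mathlib
import Cfsg.Agent.Helper2.S2096.Defs
import Cfsg.Agent.Helper23.S2096PIW
import Cfsg.Agent.Helper23.S2096PIHALF
import Cfsg.Agent.Helper20.S2096SCAL
import Cfsg.Agent.Helper25.S2096WXID
import Cfsg.Agent.Helper10.S2096NAH
import Cfsg.Agent.Helper25.S2096WXCONJW
import Cfsg.Agent.Helper5.S2096TXID
import Cfsg.Agent.Helper16.S2096TXDG
import Cfsg.Agent.Helper16.S2096DGH
import Cfsg.Agent.Helper5.S2096TXCHAIN
import Cfsg.Agent.Helper11.S2096CREL1
import Cfsg.Agent.Helper3.S2096HNORM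
import Cfsg.Agent.Helper8.S2096CSFORM
import Cfsg.Agent.Helper22.S2096CREL2
import Cfsg.Agent.Helper22.S2096CREL3
import Cfsg.Agent.Helper24.S2096HABEL
import Cfsg.Agent.Helper8.S2096HGEN
import Cfsg.Agent.Helper10.S2096NACONJ
import Cfsg.Agent.Helper8.S2096NGEN
import Cfsg.Agent.Helper2.S3352.Ker

set_option autoImplicit false
set_option linter.unusedSectionVars false
set_option linter.unusedVariables false

/-! S2096/S2097 part B: the centre of a group with the Steinberg relations of type `D_n` lies in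
the torus `Ĥ`. -/

namespace Cfsg.Agent.S2096P

open Matrix Cfsg.Agent.S3352P Cfsg.Agent.S3351P Cfsg.Agent.S2086P Cfsg.Agent.Helper2

variable {n : ℕ} {F : Type*} [Field F] [Fintype F] {M : Type*} [Group M] {X : J n → J n → F → M}

namespace MAINB

section

variable (π : M →* Matrix (J n) (J n) F)
  (hπ : ∀ a b, IsRoot a b → ∀ t : F, π (X a b t) = xm a b t)

include hπ in
/-- elements of `Ĥ` have diagonal matrices -/
theorem diag_of_mem_Hh (hn : 3 ≤ n) (hX : DRel X) {h : M} (hh : h ∈ Hh X) :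
    ∀ i a, i ≠ a → π h i a = 0 := by
  obtain ⟨c, hc⟩ := diagP_of_mem_Hh hn hX hh
  exact mono_of_rootP π hπ hn (σ := 1) (c := c) (fun a => rfl) hc

/-- a matrix with a two-sided inverse which is diagonal has nonzero diagonal entries -/
theorem diag_ne_zero {A B : Matrix (J n) (J n) F} (hAB : A * B = 1)
    (hA : ∀ i a, i ≠ a → A i a = 0) (a : J n) : A a a ≠ 0 := by
  intro h0
  have h1 : (A * B) a a = 1 := by rw [hAB, Matrix.one_apply_eq]
  rw [Matrix.mul_apply] at h1
  have h2 : ∀ i, A a i * B i a = 0 := by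
    intro i
    by_cases hi : i = a
    · rw [hi, h0, zero_mul]
    · rw [hA a i (Ne.symm hi), zero_mul]
  simp only [h2, Finset.sum_const_zero] at h1
  exact zero_ne_one h1

include hπ in
/-- the product of the sign changes of a list moves `e_j` to `± f_j` for `j` in the list -/
theorem pi_prod_cS {o : Fin n} :
    ∀ (l : List (Fin n)), l.Nodup → o ∉ l → ∀ j ∈ l,
      ∃ ε : F, (π ((l.map (cS X o)).prod)).mulVec (Pi.single (Sum.inl j) 1) =
        ε • Pi.single (Sum.inr j) 1 := by
  intro l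
  induction l with
  | nil => intro _ _ j hj; simp at hj
  | cons k l ih =>
    intro hnd ho j hj
    rw [List.nodup_cons] at hnd
    have hko : k ≠ o := fun h => ho (by rw [h]; exact List.mem_cons_self)
    have ho' : o ∉ l := fun h => ho (List.mem_cons_of_mem _ h)
    rw [List.map_cons, List.prod_cons, map_mul, ← Matrix.mulVec_mulVec]
    rcases List.mem_cons.1 hj with rfl | hjl
    · -- `j = k`: the tail fixes `e_j`
      have htail : ∀ (l' : List (Fin n)), j ∉ l' → o ∉ l' →
          (π ((l'.map (cS X o)).prod)).mulVec (Pi.single (Sum.inl j) 1) =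
            Pi.single (Sum.inl j) 1 := by
        intro l'
        induction l' with
        | nil =>
          intro _ _
          rw [List.map_nil, List.prod_nil, map_one, Matrix.one_mulVec]
        | cons k' l' ih' =>
          intro hj' ho''
          have hk'o : k' ≠ o := fun h => ho'' (by rw [h]; exact List.mem_cons_self)
          have hjk' : j ≠ k' := fun h => hj' (by rw [h]; exact List.mem_cons_self)
          rw [List.map_cons, List.prod_cons, map_mul, ← Matrix.mulVec_mulVec,
            ih' (fun h => hj' (List.mem_cons_of_mem _ h)) (fun h => ho'' (List.mem_cons_of_mem _ h))]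
          exact pi_cS_fix π hπ hk'o (c := Sum.inl j) (by simpa using hko) (by simpa using hjk')
      rw [htail l hnd.1 ho', pi_cS_flip π hπ hko]
      exact ⟨-1, by simp⟩
    · obtain ⟨ε, hε⟩ := ih hnd.2 ho' j hjl
      have hjk : j ≠ k := fun h => hnd.1 (by rw [← h]; exact hjl)
      have hjo : j ≠ o := fun h => ho' (by rw [← h]; exact hjl)
      rw [hε, Matrix.mulVec_smul,
        pi_cS_fix π hπ hko (c := Sum.inr j) (by simpa using hjo) (by simpa using hjk)]
      exact ⟨ε, rfl⟩

variable (Θ : Matrix.SpecialLinearGroup (Fin n) F →* M)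
  (hΘ : ∀ (i j : Fin n) (hij : i ≠ j) (t : F),
    Θ (Matrix.SpecialLinearGroup.transvection hij t) = X (Sum.inl i) (Sum.inl j) t)

include hπ hΘ in
/-- an element of `N̂` with a diagonal matrix lies in `Ĥ` -/
theorem mem_Hh_of_mem_Nh (hn : 3 ≤ n) (hX : DRel X) {m : M} (hm : m ∈ Nh X)
    (hd : ∀ i a, i ≠ a → π m i a = 0) : m ∈ Hh X := by
  classical
  let o : Fin n := ⟨0, by omega⟩
  obtain ⟨ν, hν, y, hy, rfl⟩ := exists_of_mem_Nh π hπ hn hX o hm
  obtain ⟨l, hnd, hol, h, hh, rfl⟩ := exists_list_of_mem_CS π hπ hn hX o hy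
  obtain ⟨g, rfl⟩ := NA_le_range Θ hΘ hX hν
  have hhd := diag_of_mem_Hh π hπ hn hX hh
  have hne := diag_ne_zero (A := π (Θ g * ((l.map (cS X o)).prod * h)))
    (B := π (Θ g * ((l.map (cS X o)).prod * h))⁻¹)
    (by rw [← map_mul, mul_inv_cancel, map_one]) hd
  -- the list is empty
  have hl : l = [] := by
    by_contra hl
    obtain ⟨j, hj⟩ := List.exists_mem_of_ne_nil l hl
    obtain ⟨ε, hε⟩ := pi_prod_cS π hπ l hnd hol j hj
    have h1 : (π (Θ g * ((l.map (cS X o)).prod * h))).mulVec (Pi.single (Sum.inl j) 1) =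
        (π h (Sum.inl j) (Sum.inl j) * ε) •
          (π (Θ g)).mulVec (Pi.single (Sum.inr j) 1) := by
      rw [map_mul, map_mul, ← Matrix.mulVec_mulVec, ← Matrix.mulVec_mulVec]
      have e1 : (π h).mulVec (Pi.single (Sum.inl j) 1) =
          π h (Sum.inl j) (Sum.inl j) • Pi.single (Sum.inl j) 1 := by
        ext i
        rw [Matrix.mulVec_single_one, Pi.smul_apply, Pi.single_apply]
        by_cases hi : i = Sum.inl j
        · subst hi; simp
        · simp [hi, hhd i (Sum.inl j) hi]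
      rw [e1, Matrix.mulVec_smul, hε, Matrix.mulVec_smul, Matrix.mulVec_smul, smul_smul]
    have h2 := congrFun h1 (Sum.inl j)
    rw [Matrix.mulVec_single_one, Pi.smul_apply, Matrix.mulVec_single_one, pi_Theta π hπ Θ hΘ g,
      Matrix.col_apply, Matrix.col_apply, Matrix.fromBlocks_apply₁₂] at h2
    simp only [Matrix.zero_apply, smul_zero] at h2
    exact hne (Sum.inl j) h2
  subst hl
  simp only [List.map_nil, List.prod_nil, one_mul] at hd ⊢
  -- `Θ g` is diagonal
  have hgd : ∀ i a, i ≠ a → π (Θ g) i a = 0 := by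
    intro i a hia
    have e : Θ g = (Θ g * h) * h⁻¹ := by group
    rw [e, map_mul, Matrix.mul_apply]
    apply Finset.sum_eq_zero
    intro k _
    have hhi := diag_of_mem_Hh π hπ hn hX (Subgroup.inv_mem _ hh)
    by_cases hk : k = a
    · subst hk; rw [hd i k hia, zero_mul]
    · rw [hhi k a hk, mul_zero]
  have hg' : ∀ i j, i ≠ j → (g : Matrix (Fin n) (Fin n) F) i j = 0 := by
    intro i j hij
    have := hgd (Sum.inl i) (Sum.inl j) (fun h => hij (Sum.inl.inj h))
    rw [pi_Theta π hπ Θ hΘ g, Matrix.fromBlocks_apply₁₁] at this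
    exact this
  obtain ⟨d, rfl⟩ := exists_dgS_of_diag hg'
  exact Subgroup.mul_mem _ (Theta_dgS_mem_Hh Θ hΘ hn hX d) hh


include hπ hΘ in
/-- the centre lies in `Ĥ` -/
theorem center_le_Hh (hn : 3 ≤ n) (hX : DRel X)
    (hgen : Subgroup.closure {g | ∃ a b, ∃ t : F, IsRoot a b ∧ g = X a b t} = ⊤) :
    Subgroup.center M ≤ Hh X := by
  intro x hxc
  -- `π x` is a scalar matrix
  obtain ⟨lam, hlam⟩ := scalar_of_comm hn (π x) (by
    intro a b hab t
    rw [← hπ a b hab t, ← map_mul, ← map_mul, (Subgroup.mem_center_iff.mp hxc (X a b t))])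
  have hx : π x = lam • 1 := hlam
  have hlam0 : lam ≠ 0 := by
    intro h0
    have h1 : π x * π x⁻¹ = 1 := by rw [← map_mul, mul_inv_cancel, map_one]
    rw [hx, h0, zero_smul, zero_mul] at h1
    have := congrFun (congrFun h1 (Sum.inl ⟨0, by omega⟩)) (Sum.inl ⟨0, by omega⟩)
    simp at this
  obtain ⟨b, hb, m, hm, b', hb', rfl⟩ := KER.mem_BNB hn hX hgen x
  obtain ⟨u, hu, k, hk, rfl⟩ := exists_of_mem_Bh hn hX hb
  obtain ⟨u', hu', k', hk', rfl⟩ := exists_of_mem_Bh hn hX hb'
  have hUT : ∀ {y : M}, y ∈ Uh X → (∀ a b, rk b < rk a → π y a b = 0) ∧ ∀ a, π y a a = 1 :=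
    fun hy => unitri_of_mem_Uh π hπ hy
  have hDg : ∀ {y : M}, DiagP X y → ∀ i a, i ≠ a → π y i a = 0 := by
    intro y ⟨c, hc⟩ i a hia
    exact mono_of_rootP π hπ hn (σ := 1) (c := c) (fun a => rfl) hc i a hia
  have hkD := diagP_of_mem_Hh hn hX hk
  have hk'D := diagP_of_mem_Hh hn hX hk'
  have hBU : ∀ {y : M}, y ∈ Uh X → Matrix.BlockTriangular (π y) rk := by
    intro y hy i j hij
    exact (hUT hy).1 i j hij
  have hBD : ∀ {y : M}, DiagP X y → Matrix.BlockTriangular (π y) rk := by
    intro y hy i j hij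
    exact hDg hy i j (fun h => by rw [h] at hij; exact lt_irrefl _ hij)
  obtain ⟨σ, hσ, c, hc⟩ := rootP_of_mem_Nh hn hX hm
  have hmono := mono_of_rootP π hπ hn hσ hc
  have hmeq : m = k⁻¹ * u⁻¹ * (u * k * m * (u' * k')) * k'⁻¹ * u'⁻¹ := by group
  have hπm : π m = lam • (π k⁻¹ * π u⁻¹ * π k'⁻¹ * π u'⁻¹) := by
    conv_lhs => rw [hmeq]
    simp only [map_mul, hx, Matrix.mul_smul, Matrix.smul_mul, mul_one]
  have hBm : Matrix.BlockTriangular (π m) rk := by
    rw [hπm]
    intro i j hij
    rw [Matrix.smul_apply, ((((hBD hkD.inv).mul (hBU (Subgroup.inv_mem _ hu))).mul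
      (hBD hk'D.inv)).mul (hBU (Subgroup.inv_mem _ hu'))) hij, smul_zero]
  have hnz : ∀ a, π m (σ a) a ≠ 0 := by
    intro a h0
    have h1 : (π m⁻¹ * π m) a a = 1 := by
      rw [← map_mul, inv_mul_cancel, map_one, Matrix.one_apply_eq]
    rw [Matrix.mul_apply] at h1
    have h2 : ∀ i, π m⁻¹ a i * π m i a = 0 := by
      intro i
      by_cases hi : i = σ a
      · rw [hi, h0, mul_zero]
      · rw [hmono i a hi, mul_zero]
    simp only [h2, Finset.sum_const_zero] at h1
    exact zero_ne_one h1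
  have hσ1 : ∀ a, σ a = a := by
    apply KER.perm_eq_one_of_rk_le
    intro a
    by_contra hlt
    exact hnz a (hBm (not_le.1 hlt))
  have hmd : ∀ i a, i ≠ a → π m i a = 0 := by
    intro i a hia
    exact hmono i a (by rw [hσ1 a]; exact hia)
  have hmH : m ∈ Hh X := mem_Hh_of_mem_Nh π hπ Θ hΘ hn hX hm hmd
  have hd' : DiagP X (k * m * k') :=
    ((hkD.mul (diagP_of_mem_Hh hn hX hmH)).mul hk'D)
  have hd : DiagP X (k * m) := hkD.mul (diagP_of_mem_Hh hn hX hmH)
  set u'' : M := u * (k * m * u' * (k * m)⁻¹) with hu''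
  have hu''U : u'' ∈ Uh X := Subgroup.mul_mem _ hu (hd.conj_mem_Uh hu')
  have hxeq : u * k * m * (u' * k') = u'' * (k * m * k') := by
    rw [hu'']; group
  rw [hxeq] at hx ⊢
  rw [map_mul] at hx
  have hdiag1 : ∀ b, π (k * m * k') b b = lam := by
    intro b
    have h1 : (π u'' * π (k * m * k')) b b = lam := by
      rw [hx, Matrix.smul_apply, Matrix.one_apply_eq, smul_eq_mul, mul_one]
    rw [Matrix.mul_apply, Finset.sum_eq_single b] at h1
    · rw [(hUT hu''U).2 b, one_mul] at h1
      exact h1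
    · intro j _ hjb
      rw [hDg hd' j b hjb, mul_zero]
    · intro h; exact absurd (Finset.mem_univ b) h
  have hπu : π u'' = 1 := by
    ext a b
    by_cases hab : a = b
    · rw [hab, (hUT hu''U).2 b, Matrix.one_apply_eq]
    · rw [Matrix.one_apply_ne hab]
      have h1 : (π u'' * π (k * m * k')) a b = 0 := by
        rw [hx, Matrix.smul_apply, Matrix.one_apply_ne hab, smul_zero]
      rw [Matrix.mul_apply, Finset.sum_eq_single b] at h1
      · rw [hdiag1 b] at h1
        exact (mul_eq_zero.1 h1).resolve_right hlam0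
      · intro j _ hjb
        rw [hDg hd' j b hjb, mul_zero]
      · intro h; exact absurd (Finset.mem_univ b) h
  have hu1 : u'' = 1 := eq_one_of_mem_Uh π hπ hn hX hu''U hπu
  rw [hu1, one_mul]
  exact Subgroup.mul_mem _ (Subgroup.mul_mem _ hk hmH) hk'

end

end MAINB

end Cfsg.Agent.S2096P
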