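import Mathlib
import Cfsg.Agent.Helper2.S2096.Defs
import Cfsg.Agent.Helper23.S2096PIW
import Cfsg.Agent.Helper23.S2096PIHALF
import Cfsg.Agent.Helper20.S2096SCAL
import Cfsg.Agent.Helper25.S2096WXID
import Cfsg.Agent.Helper10.S2096NAH
import Cfsg.Agent.Helper25.S2096WXCONJW
import Cfsg.Agent.Helper5.S2096TXID
import Cfsg.Agent.Helper16.S2096TXDG
import Cfsg.Agent.Helper16.S2096DGH
import Cfsg.Agent.Helper5.S2096TXCHAIN
import Cfsg.Agent.Helper11.S2096CREL1
import Cfsg.Agent.Helper3.S2096HNORM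
import Cfsg.Agent.Helper8.S2096CSFORM
import Cfsg.Agent.Helper22.S2096CREL2
import Cfsg.Agent.Helper22.S2096CREL3
import Cfsg.Agent.Helper24.S2096HABEL
import Cfsg.Agent.Helper8.S2096HGEN
import Cfsg.Agent.Helper10.S2096NACONJ
import Cfsg.Agent.Helper8.S2096NGEN
import Cfsg.Agent.Helper23.S2096ZPI
import Cfsg.Agent.Helper23.S2096ZINJ
import Cfsg.Agent.Helper18.S2096ZCENT
import Cfsg.Agent.Helper19.S2096ZHOM
import Cfsg.Agent.Helper23.S2096ZSURJ
import Cfsg.Agent.Helper2.S2096.MainB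

set_option autoImplicit false
set_option linter.unusedSectionVars false
set_option linter.unusedVariables false

/-! S2096/S2097 part Z: the centre of a perfect group with the Steinberg relations of type `D_n`
and a matrix representation is parametrized by `Zpar n F`. -/

namespace Cfsg.Agent.S2096P

open Matrix Cfsg.Agent.S3352P Cfsg.Agent.S3351P Cfsg.Agent.S2086P Cfsg.Agent.Helper2

variable {n : ℕ} {F : Type*} [Field F] [Fintype F] {M : Type*} [Group M] {X : J n → J n → F → M}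

namespace MAINZ

/-- the centre is isomorphic to the parameter group -/
theorem exists_center_iso (π : M →* Matrix (J n) (J n) F)
    (hπ : ∀ a b, IsRoot a b → ∀ t : F, π (X a b t) = xm a b t)
    (Θ : Matrix.SpecialLinearGroup (Fin n) F →* M)
    (hΘ : ∀ (i j : Fin n) (hij : i ≠ j) (t : F),
      Θ (Matrix.SpecialLinearGroup.transvection hij t) = X (Sum.inl i) (Sum.inl j) t)
    (hn : 3 ≤ n) (hX : DRel X)
    (hgen : Subgroup.closure {g | ∃ a b, ∃ t : F, IsRoot a b ∧ g = X a b t} = ⊤)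
    (hperf : commutator M = ⊤) {o o1 : Fin n} (ho : o ≠ o1)
    (hz : (2 : F) ≠ 0 → zc X o o1 ≠ 1) :
    Nonempty (↥(Zpar n F) ≃* ↥(Subgroup.center M)) := by
  have hker : π.ker ≤ Subgroup.center M := ker_le_center π hπ hn hX hgen
  have hcH : Subgroup.center M ≤ Hh X := MAINB.center_le_Hh π hπ Θ hΘ hn hX hgen
  have hmem : ∀ p : ↥(Zpar n F), zphi Θ X ho p ∈ Subgroup.center M := by
    intro p
    apply mem_center_of_map_comm π hker hperf
    intro g
    rw [pi_zphi π hπ Θ hΘ hn ho p, Matrix.smul_mul, Matrix.mul_smul, one_mul, mul_one]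
  have hone : zphi Θ X ho (1 : ↥(Zpar n F)) = 1 := by
    have h := zphi_mul π hπ Θ hΘ hn hX ho 1 1
    rw [mul_one] at h
    exact left_eq_mul.mp h
  let f : ↥(Zpar n F) →* ↥(Subgroup.center M) :=
    { toFun := fun p => ⟨zphi Θ X ho p, hmem p⟩
      map_one' := Subtype.ext hone
      map_mul' := fun p q => Subtype.ext (zphi_mul π hπ Θ hΘ hn hX ho p q) }
  refine ⟨MulEquiv.ofBijective f ⟨?_, ?_⟩⟩
  · rw [injective_iff_map_eq_one]
    intro p hp
    have hp' : zphi Θ X ho p = 1 := congrArg Subtype.val hp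
    exact zphi_eq_one π hπ Θ hΘ hn hX ho hz p hp'
  · rintro ⟨x, hx⟩
    have hsc : ∃ lam : F, π x = lam • (1 : Matrix (J n) (J n) F) :=
      scalar_of_comm hn (π x) (by
        intro a b hab t
        rw [← hπ a b hab t, ← map_mul, ← map_mul, (Subgroup.mem_center_iff.mp hx (X a b t))])
    obtain ⟨p, hp⟩ := exists_zphi_eq π hπ Θ hΘ hn hX ho hcH hx hsc
    exact ⟨p, Subtype.ext hp⟩

end MAINZ

end Cfsg.Agent.S2096P
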