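import Mathlib
import Cfsg.Prelude.Def_Classical
import Cfsg.Prelude.Def_KGroupFacts
import Cfsg.Agent.Helper2.S2096.Defs
import Cfsg.Agent.Helper20.S2096HALFSL
import Cfsg.Agent.Helper20.S2096ORTHGEN
import Cfsg.Agent.Helper16.S2096YMAP
import Cfsg.Agent.Helper3.S2096HALFSTD
import Cfsg.Agent.Helper19.S2096C2H
import Cfsg.Agent.Helper7.S2096YIND
import Cfsg.Agent.Helper23.S2096PIW
import Cfsg.Agent.Helper23.S2096PIHALF
import Cfsg.Agent.Helper20.S2096SCAL
import Cfsg.Agent.Helper25.S2096WXID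
import Cfsg.Agent.Helper10.S2096NAH
import Cfsg.Agent.Helper25.S2096WXCONJW
import Cfsg.Agent.Helper5.S2096TXID
import Cfsg.Agent.Helper16.S2096TXDG
import Cfsg.Agent.Helper16.S2096DGH
import Cfsg.Agent.Helper5.S2096TXCHAIN
import Cfsg.Agent.Helper11.S2096CREL1
import Cfsg.Agent.Helper3.S2096HNORM
import Cfsg.Agent.Helper8.S2096CSFORM
import Cfsg.Agent.Helper22.S2096CREL2
import Cfsg.Agent.Helper22.S2096CREL3
import Cfsg.Agent.Helper24.S2096HABEL
import Cfsg.Agent.Helper8.S2096HGEN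
import Cfsg.Agent.Helper10.S2096NACONJ
import Cfsg.Agent.Helper8.S2096NGEN
import Cfsg.Agent.Helper23.S2096ZPI
import Cfsg.Agent.Helper23.S2096ZINJ
import Cfsg.Agent.Helper18.S2096ZCENT
import Cfsg.Agent.Helper19.S2096ZHOM
import Cfsg.Agent.Helper23.S2096ZSURJ
import Cfsg.Agent.Helper22.S2096ARITH
import Cfsg.Agent.Helper2.S2096.MainA
import Cfsg.Agent.Helper2.S2096.MainB
import Cfsg.Agent.Helper2.S2096.MainZ
import Cfsg.Agent.Helper2.S2096.MainC
import Cfsg.Agent.Helper8.S3352MODEL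
import Cfsg.Agent.Helper15.S3352MDREL
import Cfsg.Agent.Helper11.PSL32Mult

set_option autoImplicit false
set_option linter.unusedSectionVars false
set_option linter.unusedVariables false

/-! S2096/S2097 part F: the Steinberg group of type `D_n` over a finite field is the universal
cover of `PΩ⁺_{2n}(F)`; the Schur multiplier of `PΩ⁺_{2n}(F)` is `Zpar n F`. -/

namespace Cfsg.Agent.S2096P

open Matrix Cfsg.Agent.S3352P Cfsg.Agent.S3351P Cfsg.Agent.S2086P Cfsg.Agent.Helper2
open scoped commutatorElement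

universe u v

variable {n : ℕ} {F : Type u} [Field F] [Fintype F]

namespace MAINF

/-- the natural map of the Steinberg group onto `Ω⁺_{2n}(F)` -/
theorem exists_rho (hn : 3 ≤ n) :
    ∃ ρ : St n F →* ↥(Cfsg.Omega F (Cfsg.quadFormPlus n F)), Function.Surjective ρ ∧
      ∀ a b, IsRoot a b → ∀ t : F, coeΩ n F (ρ (sx a b t)) = xm a b t := by
  obtain ⟨Y, hY, hYgen⟩ := exists_model (F := F) (n := n) hn
  have hYrel : DRel Y := dRel_of_coe (coeΩ n F) coeΩ_injective hY
  obtain ⟨ρ, hρ⟩ := exists_lift hYrel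
  refine ⟨ρ, ?_, ?_⟩
  · rw [← MonoidHom.range_eq_top, eq_top_iff, ← hYgen, Subgroup.closure_le]
    rintro _ ⟨a, b, t, hab, rfl⟩
    exact ⟨sx a b t, hρ a b hab t⟩
  · intro a b hab t
    rw [hρ a b hab t, hY a b hab t]

/-- the Steinberg group is perfect -/
theorem commutator_St (hn : 3 ≤ n) : commutator (St n F) = ⊤ := by
  rw [eq_top_iff, ← closure_sx, Subgroup.closure_le]
  rintro _ ⟨a, b, t, hab, rfl⟩
  have h := (dRel_sx (n := n) (F := F)).mul a (th hn a b) b (isRoot_left_th hn a b)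
    (isRoot_th_right hn a b) hab t 1
  rw [mul_one] at h
  rw [SetLike.mem_coe, ← h, cm_def, ← commutatorElement_def]
  exact Subgroup.commutator_mem_commutator (Subgroup.mem_top _) (Subgroup.mem_top _)

/-- the kernel of the natural map is central -/
theorem ker_rho_le (hn : 3 ≤ n) (ρ : St n F →* ↥(Cfsg.Omega F (Cfsg.quadFormPlus n F)))
    (hρ : ∀ a b, IsRoot a b → ∀ t : F, coeΩ n F (ρ (sx a b t)) = xm a b t) :
    ρ.ker ≤ Subgroup.center (St n F) := by
  have h := ker_le_center ((coeΩ n F).comp ρ) (X := sx) (fun a b hab t => hρ a b hab t) hn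
    dRel_sx closure_sx
  intro x hx
  apply h
  rw [MonoidHom.mem_ker] at hx ⊢
  rw [MonoidHom.comp_apply, hx, map_one]

/-- the Steinberg group is finite -/
theorem finite_St (hn : 3 ≤ n) : Finite (St n F) := by
  obtain ⟨ρ, hρs, hρ⟩ := exists_rho (n := n) (F := F) hn
  have hker := ker_rho_le hn ρ hρ
  have : Finite ↥(Cfsg.Omega F (Cfsg.quadFormPlus n F)) := inferInstance
  have hfin := Cfsg.Agent.Helper11.Cover.finite_commutator ρ hρs hker
  rw [commutator_St hn] at hfin
  exact Finite.of_equiv _ Subgroup.topEquiv.toEquiv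

/-- the Schur multiplier of `PΩ⁺_{2n}(F)` is the parameter group `Zpar n F` -/
theorem hasSchurMultiplier (hn : 4 ≤ n) (hbig : Big n F) {A : Type v} [CommGroup A]
    (e : A ≃* ↥(Zpar n F)) :
    Cfsg.HasSchurMultiplier (Cfsg.POmega F (Cfsg.quadFormPlus n F)) A := by
  have hn3 : 3 ≤ n := by omega
  obtain ⟨ρ, hρs, hρ⟩ := exists_rho (n := n) (F := F) hn3
  have := finite_St (n := n) (F := F) hn3
  have hperf := commutator_St (n := n) (F := F) hn3
  have hkρ := ker_rho_le hn3 ρ hρ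
  let π' : St n F →* Cfsg.POmega F (Cfsg.quadFormPlus n F) :=
    (QuotientGroup.mk' (Subgroup.center ↥(Cfsg.Omega F (Cfsg.quadFormPlus n F)))).comp ρ
  have hπ's : Function.Surjective π' := (QuotientGroup.mk'_surjective _).comp hρs
  have hkereq : π'.ker = Subgroup.center (St n F) := by
    apply le_antisymm
    · intro x hx
      have h1 : ρ x ∈ Subgroup.center ↥(Cfsg.Omega F (Cfsg.quadFormPlus n F)) := by
        rw [MonoidHom.mem_ker, MonoidHom.comp_apply] at hx
        exact (QuotientGroup.eq_one_iff _).mp hx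
      apply mem_center_of_map_comm ρ hkρ hperf
      intro g
      exact ((Subgroup.mem_center_iff.mp h1 (ρ g)).symm)
    · intro x hx
      rw [MonoidHom.mem_ker, MonoidHom.comp_apply, QuotientGroup.mk'_apply,
        QuotientGroup.eq_one_iff]
      rw [Subgroup.mem_center_iff] at hx ⊢
      intro g
      obtain ⟨g', rfl⟩ := hρs g
      rw [← map_mul, ← map_mul, hx g']
  obtain ⟨Θ, hΘ⟩ := exists_half_sl hn3 (dRel_sx (n := n) (F := F)) (∅ : Finset (Fin n))
  have hΘ' : ∀ (i j : Fin n) (hij : i ≠ j) (t : F),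
      Θ (Matrix.SpecialLinearGroup.transvection hij t) = sx (Sum.inl i) (Sum.inl j) t := by
    intro i j hij t
    rw [hΘ i j hij t]
    simp [half]
  have ho : (⟨0, by omega⟩ : Fin n) ≠ ⟨1, by omega⟩ := by
    intro h
    have := congrArg Fin.val h
    simp at this
  obtain ⟨ez⟩ := MAINZ.exists_center_iso ((coeΩ n F).comp ρ) (X := sx)
    (fun a b hab t => hρ a b hab t) Θ hΘ' hn3 dRel_sx closure_sx hperf ho
    (fun h2 => zc_sx_ne_one h2 ho)
  have e1 : A ≃* π'.ker := (e.trans ez).trans (MulEquiv.subgroupCongr hkereq.symm)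
  exact Cfsg.Agent.Helper11.Cover.hasSchurMultiplier_of_cover hperf
    (fun P _ _ ρ' hρ' => MAINA.ker_eq_bot hbig hn3 ρ' hρ') π' hπ's hkereq.le e1

end MAINF

end Cfsg.Agent.S2096P
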